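import Cfsg.Agent.H419.EP.Big
import Cfsg.Agent.H948.EP.Eig

/-!
# S3499-V: the numeric elimination for the four kinds (helper181)

`b : Big A Γ S P`, `n = card ι`, `q = card F`.
* `ord_lin`, `ord_bil`, `ord_uni` : a prime `s ∣ |Q|`, `s ∤ q`: `n ≥ ord_s(q)`, `n ≥ ord_s(-q)` (bilinear form),
  `n ≥ ord_s(-q₀)` (unitary form, `q = q₀²`);
* `cases` : the four kinds with the size of `Q` and these bounds;
* `kill` : the contradiction from a table, checked by `decide`, for all `q ≥ q₂`.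
-/

set_option autoImplicit false
set_option linter.unusedSectionVars false

namespace Cfsg.Agent.H181.EP

open Subgroup Cfsg Cfsg.Agent.H284 Cfsg.Agent.H419.EP Matrix
open scoped MatrixGroups

section

variable {Q : Type} [Group Q] [Finite Q] {A : Subgroup Q} {Γ : Subgroup (MulAut Q)} {ι : Type} [Fintype ι]
    [DecidableEq ι] {F : Type} [Field F] [Fintype F] {S P : Subgroup (GL ι F)}

omit [Finite Q] in
/-- Cauchy in `S` -/
theorem exists_mat (m : Model Q S) {s : ℕ} (hs : s.Prime) (hsQ : s ∣ Nat.card Q) :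
    ∃ g ∈ S, (g : Matrix ι ι F) ^ s = 1 ∧ (g : Matrix ι ι F) ≠ 1 := by
  have := Fact.mk hs
  have h1 : s ∣ Nat.card S := hsQ.trans (Subgroup.card_dvd_of_surjective m.π m.surj)
  obtain ⟨g, hg⟩ := exists_prime_orderOf_dvd_card' s h1
  refine ⟨g, g.2, ?_, ?_⟩
  · have h2 : g ^ s = 1 := by rw [← hg]; exact pow_orderOf_eq_one g
    have h3 : (g : GL ι F) ^ s = 1 := by rw [← Subgroup.coe_pow, h2]; rfl
    rw [← Units.val_pow_eq_pow_val, h3, Units.val_one]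
  · intro h
    have h2 : (g : GL ι F) = 1 := Units.ext h
    have h3 : g = 1 := Subtype.ext h2
    rw [h3, orderOf_one] at hg
    exact hs.one_lt.ne hg

theorem cast_ne {s : ℕ} (hs : s.Prime) (hq : ¬ s ∣ Fintype.card F) : (s : F) ≠ 0 := by
  intro h0
  obtain ⟨p, hp⟩ := CharP.exists F
  obtain ⟨k, hpp, hc⟩ := FiniteField.card F p
  have h1 : p ∣ s := (CharP.cast_eq_zero_iff F p s).1 h0
  have h2 : p = s := (Nat.prime_dvd_prime_iff_eq hpp hs).1 h1
  apply hq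
  rw [hc, ← h2]
  exact dvd_pow_self p k.ne_zero

theorem ord_lin (m : Model Q S) {s : ℕ} (hs : s.Prime) (hsQ : s ∣ Nat.card Q) (hq : ¬ s ∣ Fintype.card F) :
    orderOf ((Fintype.card F : ℕ) : ZMod s) ≤ Fintype.card ι := by
  obtain ⟨g, -, h1, h2⟩ := exists_mat m hs hsQ
  exact H948.EP.ord_le hs (cast_ne hs hq) h1 h2

theorem ord_bil (m : Model Q S) {f : (ι → F) → (ι → F) → F} (hf : Geo.IsBilinearForm f)
    (hnd : Geo.IsNondegenerateForm f) (hS : Geo.FixesForm (Geo.matrixSet S) f) {s : ℕ} (hs : s.Prime)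
    (hsQ : s ∣ Nat.card Q) (hq : ¬ s ∣ Fintype.card F) :
    orderOf (-((Fintype.card F : ℕ) : ZMod s)) ≤ Fintype.card ι := by
  obtain ⟨g, hg, h1, h2⟩ := exists_mat m hs hsQ
  exact H948.EP.ord_le_bil hf hnd (hS _ ⟨g, hg, rfl⟩) hs (cast_ne hs hq) h1 h2

theorem ord_uni (m : Model Q S) {q : ℕ} (hF : Fintype.card F = q ^ 2) {σ : F ≃+* F} {f : (ι → F) → (ι → F) → F}
    (hf : Geo.IsUnitaryForm σ f) (hS : Geo.FixesForm (Geo.matrixSet S) f) {s : ℕ} (hs : s.Prime)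
    (hsQ : s ∣ Nat.card Q) (hq : ¬ s ∣ q) : orderOf (-(q : ZMod s)) ≤ Fintype.card ι := by
  obtain ⟨g, hg, h1, h2⟩ := exists_mat m hs hsQ
  exact H948.EP.ord_le_uni hF hf (hS _ ⟨g, hg, rfl⟩) hs (cast_ne hs fun h => hq (hs.dvd_of_dvd_pow (hF ▸ h))) h1 h2

omit [Fintype F] in
/-- `Ω(Qf)` preserves the polar form -/
theorem fixes_polar (Qf : (ι → F) → F) :
    Geo.FixesForm (Geo.matrixSet (Geo.omegaGL Qf)) (QuadraticMap.polar Qf) := by
  rintro _ ⟨g, ⟨x, hx, rfl⟩, rfl⟩ u v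
  have h0 : ∀ w : ι → F, Qf (((x : GL ι F) : Matrix ι ι F) *ᵥ w) = Qf w := fun w => x.2 w w
  change Qf (((x : GL ι F) : Matrix ι ι F) *ᵥ u + ((x : GL ι F) : Matrix ι ι F) *ᵥ v) -
    Qf (((x : GL ι F) : Matrix ι ι F) *ᵥ u) - Qf (((x : GL ι F) : Matrix ι ι F) *ᵥ v) = Qf (u + v) - Qf u - Qf v
  rw [← Matrix.mulVec_add, h0, h0, h0]

/-- `n ≥ ord_s(-q)` -/
def Bil (n q N : ℕ) : Prop := ∀ s : ℕ, s.Prime → s ∣ N → ¬ s ∣ q → orderOf (-(q : ZMod s)) ≤ n

/-- **The four kinds.** -/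
theorem cases (b : Big A Γ S P) :
    Fintype.card F ^ (Fintype.card ι ^ 2 - 2) ≤ Nat.card Q ∨
    (3 ≤ Fintype.card F ∧ Fintype.card F ^ (Fintype.card ι * (Fintype.card ι + 1) / 2) ≤ 4 * Nat.card Q ∧
      Bil (Fintype.card ι) (Fintype.card F) (Nat.card Q)) ∨
    (∃ q, Fintype.card F = q ^ 2 ∧ q ^ (Fintype.card ι ^ 2 - 3) ≤ Nat.card Q ∧ Bil (Fintype.card ι) q (Nat.card Q)) ∨
    (Fintype.card F ^ (Fintype.card ι * (Fintype.card ι - 1) / 2) ≤ 8 * Nat.card Q ∧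
      Bil (Fintype.card ι) (Fintype.card F) (Nat.card Q) ∧
      ∃ Qf : (ι → F) → F, Geo.IsNondegenerateQuadraticForm Qf ∧ S = Geo.omegaGL Qf) := by
  rcases b.kind with ⟨-, ho, -, -, -⟩ | ⟨f, hf, hS, h3, ho, -, -⟩ | ⟨q, hq, σ, f, hf, hS, -, ho, -, -⟩ |
    ⟨Qf, hQ, hS, ho, -⟩
  · exact Or.inl ho
  · exact Or.inr (Or.inl ⟨h3, ho, fun s hs h1 h2 => ord_bil b.m hf.bilinear hf.nondegenerate hS hs h1 h2⟩)
  · exact Or.inr (Or.inr (Or.inl ⟨q, hq, ho, fun s hs h1 h2 => ord_uni b.m hq hf hS hs h1 h2⟩))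
  · refine Or.inr (Or.inr (Or.inr ⟨ho, fun s hs h1 h2 => ?_, Qf, hQ, hS⟩))
    refine ord_bil b.m hQ.polar_bilinear hQ.nondegenerate ?_ hs h1 h2
    rw [hS]
    exact fixes_polar Qf

/-! ### the table -/

/-- `a ^ i ≢ 1` modulo `s` for `0 < i < M` -/
def og (a s M : ℕ) : Bool := (List.range (M - 1)).all fun i => decide (a ^ (i + 1) % s ≠ 1)

theorem ge_of {a s M n : ℕ} (hs : s.Prime) (h : og a s M = true) (ha : ¬ s ∣ a) (hn : orderOf (a : ZMod s) ≤ n) :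
    M ≤ n := by
  have := Fact.mk hs
  by_contra hcon
  push Not at hcon
  have h0 : (a : ZMod s) ≠ 0 := fun e => ha ((ZMod.natCast_eq_zero_iff _ _).1 e)
  have h1 : 0 < orderOf (a : ZMod s) := orderOf_pos_iff.2 (isOfFinOrder_iff_isUnit.2 (Ne.isUnit h0))
  have h2 := pow_orderOf_eq_one (a : ZMod s)
  set k := orderOf (a : ZMod s) with hk
  rw [og, List.all_eq_true] at h
  have h3 := h (k - 1) (List.mem_range.2 (by omega))
  rw [decide_eq_true_eq, Nat.sub_add_cancel h1] at h3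
  apply h3
  have h4 : ((a ^ k : ℕ) : ZMod s) = ((1 : ℕ) : ZMod s) := by rw [Nat.cast_pow, h2, Nat.cast_one]
  have h5 := (ZMod.natCast_eq_natCast_iff _ _ _).1 h4
  rw [Nat.ModEq, Nat.mod_eq_of_lt hs.one_lt] at h5
  exact h5

theorem ge_of_neg {a s M n : ℕ} (hs : s.Prime) (h : og (s - a % s) s M = true) (ha : ¬ s ∣ a)
    (hn : orderOf (-(a : ZMod s)) ≤ n) : M ≤ n := by
  have h1 : a % s < s := Nat.mod_lt _ hs.pos
  have h2 : ((s - a % s : ℕ) : ZMod s) = -(a : ZMod s) := by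
    rw [Nat.cast_sub h1.le, ZMod.natCast_self, zero_sub, ZMod.natCast_mod]
  refine ge_of hs h ?_ (by rw [h2]; exact hn)
  intro h3
  apply ha
  rw [← ZMod.natCast_eq_zero_iff] at h3 ⊢
  rw [h2, neg_eq_zero] at h3
  exact h3

/-- an entry of the table for `q = |F|`: `s`, `M` for `n ≥ M` by `ord_s(q)`; `full` if this is enough; `sb`, `Mb` for
the bilinear kinds by `ord_s(-q)`; `r` with `q = r²` (or `r = 0`), `su`, `Mu` for the unitary kind by `ord_s(-r)` -/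
structure Ent where
  q : ℕ
  s : ℕ
  M : ℕ
  full : Bool
  sb : ℕ := 2
  Mb : ℕ := 0
  r : ℕ := 0
  su : ℕ := 2
  Mu : ℕ := 0

/-- `M` is a lower bound for `n` -/
def okp (N a a' s M : ℕ) : Bool :=
  decide (M ≤ 13) || (decide (s ≠ 0) && decide (a' % s ≠ 0) && decide (N % s = 0) && og a s M)

/-- the check of one entry -/
def chk (B N : ℕ) (e : Ent) : Bool :=
  okp N e.q e.q e.s e.M &&
    ((e.full && decide (8 * B < e.q ^ (e.M * (e.M - 1) / 2))) ||
      (decide (B < e.q ^ (e.M ^ 2 - 2)) && okp N (e.sb - e.q % e.sb) e.q e.sb e.Mb &&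
        decide (8 * B < e.q ^ (e.Mb * (e.Mb - 1) / 2)) &&
        (decide (e.r = 0 ∧ ∀ x, x ≤ e.q → x ^ 2 ≠ e.q) ||
          (decide (e.r ^ 2 = e.q) && okp N (e.su - e.r % e.su) e.r e.su e.Mu && decide (B < e.r ^ (e.Mu ^ 2 - 3))))))

theorem le_of_okp {N q s M n : ℕ} (hn : 13 ≤ n) (hs : s.Prime) (h : okp N q q s M = true)
    (hm : ∀ s : ℕ, s.Prime → s ∣ N → ¬ s ∣ q → orderOf (q : ZMod s) ≤ n) : M ≤ n := by
  rw [okp, Bool.or_eq_true, decide_eq_true_eq, Bool.and_eq_true, Bool.and_eq_true, Bool.and_eq_true,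
    decide_eq_true_eq, decide_eq_true_eq, decide_eq_true_eq] at h
  rcases h with h | ⟨⟨⟨-, h1⟩, h2⟩, h3⟩
  · omega
  · have h4 : ¬ s ∣ q := fun h => h1 (Nat.mod_eq_zero_of_dvd h)
    exact ge_of hs h3 h4 (hm s hs (Nat.dvd_of_mod_eq_zero h2) h4)

theorem le_of_okp' {N q s M n : ℕ} (hn : 13 ≤ n) (hs : s.Prime) (h : okp N (s - q % s) q s M = true)
    (hm : Bil n q N) : M ≤ n := by
  rw [okp, Bool.or_eq_true, decide_eq_true_eq, Bool.and_eq_true, Bool.and_eq_true, Bool.and_eq_true,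
    decide_eq_true_eq, decide_eq_true_eq, decide_eq_true_eq] at h
  rcases h with h | ⟨⟨⟨-, h1⟩, h2⟩, h3⟩
  · omega
  · have h4 : ¬ s ∣ q := fun h => h1 (Nat.mod_eq_zero_of_dvd h)
    exact ge_of_neg hs h3 h4 (hm s hs (Nat.dvd_of_mod_eq_zero h2) h4)

theorem pow_mono {q a c x : ℕ} (hq : 1 ≤ q) (h : a ≤ c) (h1 : q ^ c ≤ x) : q ^ a ≤ x :=
  (Nat.pow_le_pow_right hq h).trans h1

/-- **The contradiction from a table**: `|Q| ≤ B`, `N ∣ |Q|`, one entry for each prime power `q₂ ≤ q < q₁`. -/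
theorem kill (b : Big A Γ S P) {B N q₂ q₁ : ℕ} (hB : Nat.card Q ≤ B) (hN : N ∣ Nat.card Q) (hq₁ : 8 * B < q₁ ^ 78)
    (t : List Ent) (ht : t.all (chk B N) = true) (hp : ∀ e ∈ t, e.s.Prime ∧ e.sb.Prime ∧ e.su.Prime)
    (hq : ∀ q, q₂ ≤ q → q < q₁ → IsPrimePow q → q ∈ t.map Ent.q) (h2 : q₂ ≤ Fintype.card F) : False := by
  have hn := b.thirteen
  have hF := b.two_le
  have hord := b.ord
  set n := Fintype.card ι with hnn
  by_cases hlt : Fintype.card F < q₁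
  swap
  · push Not at hlt
    have h3 : 13 * (13 - 1) / 2 ≤ n * (n - 1) / 2 := Nat.div_le_div_right (Nat.mul_le_mul hn (by omega))
    have h4 : q₁ ^ 78 ≤ 8 * Nat.card Q :=
      (Nat.pow_le_pow_left hlt 78).trans (pow_mono (by omega) h3 hord)
    omega
  have hpp : IsPrimePow (Fintype.card F) := by
    obtain ⟨p, hp⟩ := CharP.exists F
    obtain ⟨k, hpr, hc⟩ := FiniteField.card F p
    rw [hc]
    exact hpr.isPrimePow.pow k.ne_zero
  obtain ⟨e, he, heq⟩ := List.mem_map.1 (hq _ h2 hlt hpp)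
  obtain ⟨hs, hsb, hsu⟩ := hp e he
  have hc := List.all_eq_true.1 ht e he
  rw [chk, Bool.and_eq_true] at hc
  obtain ⟨c1, c2⟩ := hc
  rw [heq] at c1 c2
  have hM : e.M ≤ n := le_of_okp hn hs c1 fun s hs h1 h2 => ord_lin b.m hs (h1.trans hN) h2
  rcases Bool.or_eq_true _ _ ▸ c2 with c2 | c2
  · rw [Bool.and_eq_true, decide_eq_true_eq] at c2
    have h3 : e.M * (e.M - 1) / 2 ≤ n * (n - 1) / 2 := Nat.div_le_div_right (Nat.mul_le_mul hM (by omega))
    have h4 := pow_mono (by omega) h3 hord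
    omega
  · simp only [Bool.and_eq_true, decide_eq_true_eq] at c2
    obtain ⟨⟨⟨c3, c4⟩, c5⟩, c6⟩ := c2
    have bil : Bil n (Fintype.card F) (Nat.card Q) → e.Mb ≤ n := fun h =>
      le_of_okp' hn hsb c4 fun s hs h1 h2 => h s hs (h1.trans hN) h2
    rcases cases b with h | ⟨-, h, h'⟩ | ⟨r, hr, h, h'⟩ | ⟨h, h', -⟩
    · have h3 : e.M ^ 2 - 2 ≤ n ^ 2 - 2 := Nat.sub_le_sub_right (Nat.pow_le_pow_left hM 2) 2
      have h4 := pow_mono (by omega) h3 h
      omega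
    · have h3 : e.Mb * (e.Mb - 1) / 2 ≤ n * (n + 1) / 2 :=
        Nat.div_le_div_right (Nat.mul_le_mul (bil h') (by have := bil h'; omega))
      have h4 := pow_mono (by omega) h3 h
      omega
    · rcases Bool.or_eq_true _ _ ▸ c6 with c7 | c7
      · rw [decide_eq_true_eq] at c7
        refine c7.2 r ?_ hr.symm
        rw [hr]
        exact Nat.le_self_pow two_ne_zero r
      · simp only [Bool.and_eq_true, decide_eq_true_eq] at c7
        obtain ⟨⟨c8, c9⟩, c10⟩ := c7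
        have hrr : e.r = r := by
          have : e.r ^ 2 = r ^ 2 := by rw [c8, hr]
          exact Nat.pow_left_injective (n := 2) (by norm_num) this
        rw [hrr] at c9 c10
        have hr1 : 1 ≤ r := by
          rcases Nat.eq_zero_or_pos r with h0 | h0
          · rw [h0] at hr
            omega
          · exact h0
        have h5 : e.Mu ≤ n := le_of_okp' hn hsu c9 fun s hs h1 h2 => h' s hs (h1.trans hN) h2
        have h3 : e.Mu ^ 2 - 3 ≤ n ^ 2 - 3 := Nat.sub_le_sub_right (Nat.pow_le_pow_left h5 2) 3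
        have h4 := pow_mono hr1 h3 h
        omega
    · have h3 : e.Mb * (e.Mb - 1) / 2 ≤ n * (n - 1) / 2 :=
        Nat.div_le_div_right (Nat.mul_le_mul (bil h') (by have := bil h'; omega))
      have h4 := pow_mono (by omega) h3 h
      omega

end

end Cfsg.Agent.H181.EP
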