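import Cfsg.Agent.H181.EP.UBN
import Cfsg.Agent.H181.EP.Num
import Cfsg.Agent.H568.EP.Prime
import Cfsg.Agent.H498.SporOut
import Cfsg.Agent.H805.EPT.SporUB
import Cfsg.Agent.H812.EP.Ly
import Cfsg.Agent.NotCT.Orders

/-!
# S3499-V, row `soc(A) = Fi24'` (helper181, task 6093)

`|Q| < 2 ^ 377.09`; the primes 29, 23, 17 kill all `q ≥ 3`, and for `q = 2` leave `Ω₂₈⁻(2)`, of order `2 ^ 377.46`.
-/

set_option autoImplicit false
set_option maxRecDepth 10000

namespace Cfsg.Agent.H181.EP

open Subgroup Cfsg Cfsg.Agent.H284 Cfsg.Agent.H419.EP Cfsg.Agent.H59.EP Cfsg.Agent.OrdDiv Cfsg.Agent.H436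
open scoped MatrixGroups

/-- `|Fi24'|` -/
abbrev K24 : ℕ := 1255205709190661721292800

/-- the factorisation of `2 |Fi24'|` -/
def l24 : List (ℕ × ℕ) := [(2, 22), (3, 16), (5, 2), (7, 3), (11, 1), (13, 1), (17, 1), (23, 1), (29, 1)]

/-- the bound -/
def B24 : ℕ := bndN l24 (2 * K24) K24

/-- the table -/
def t24 : List Ent := [
  { q := 3, s := 29, M := 28, full := true },
  { q := 4, s := 29, M := 14, full := false, sb := 23, Mb := 22, r := 2, su := 29, Mu := 28 },
  { q := 5, s := 23, M := 22, full := true },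
  { q := 7, s := 23, M := 22, full := true },
  { q := 8, s := 29, M := 28, full := true },
  { q := 9, s := 29, M := 14, full := false, sb := 23, Mb := 22, r := 3, su := 29, Mu := 28 },
  { q := 11, s := 29, M := 28, full := true },
  { q := 13, s := 29, M := 14, full := false, sb := 23, Mb := 22 },
  { q := 16, s := 2, M := 13, full := false, sb := 23, Mb := 22, r := 4, su := 23, Mu := 22 },
  { q := 17, s := 23, M := 22, full := true },
  { q := 19, s := 29, M := 28, full := true },
  { q := 23, s := 17, M := 16, full := true },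
  { q := 25, s := 2, M := 13, full := false, sb := 23, Mb := 22, r := 5, su := 17, Mu := 16 },
  { q := 27, s := 29, M := 28, full := true },
  { q := 29, s := 17, M := 16, full := true }]

theorem t24_ok : t24.all (chk B24 K24) = true := by decide +kernel

theorem b24_lt : 8 * B24 < 31 ^ 78 := by decide +kernel

theorem t24_prime : ∀ e ∈ t24, e.s.Prime ∧ e.sb.Prime ∧ e.su.Prime := by
  have h : ∀ e ∈ t24, (e.s = 2 ∨ e.s = 17 ∨ e.s = 23 ∨ e.s = 29) ∧ (e.sb = 2 ∨ e.sb = 23) ∧
      (e.su = 2 ∨ e.su = 17 ∨ e.su = 23 ∨ e.su = 29) := by decide +kernel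
  intro e he
  obtain ⟨h1, h2, h3⟩ := h e he
  refine ⟨?_, ?_, ?_⟩
  · rcases h1 with h | h | h | h <;> rw [h] <;> norm_num
  · rcases h2 with h | h <;> rw [h] <;> norm_num
  · rcases h3 with h | h | h | h <;> rw [h] <;> norm_num

theorem not_pp {p r n : ℕ} (hp : p.Prime) (hr : r.Prime) (hne : p ≠ r) (hpn : n % p = 0) (hrn : n % r = 0) :
    ¬ IsPrimePow n := by
  intro hn
  obtain ⟨s, k, hs, hk, rfl⟩ := (isPrimePow_nat_iff n).1 hn
  have e1 := (Nat.prime_dvd_prime_iff_eq hp hs).1 (hp.dvd_of_dvd_pow (Nat.dvd_of_mod_eq_zero hpn))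
  have e2 := (Nat.prime_dvd_prime_iff_eq hr hs).1 (hr.dvd_of_dvd_pow (Nat.dvd_of_mod_eq_zero hrn))
  exact hne (e1.trans e2.symm)

theorem t24_mem (q : ℕ) (h1 : 3 ≤ q) (h2 : q < 31) (h3 : IsPrimePow q) : q ∈ t24.map Ent.q := by
  have p2 : Nat.Prime 2 := by norm_num
  have p3 : Nat.Prime 3 := by norm_num
  have p5 : Nat.Prime 5 := by norm_num
  have p7 : Nat.Prime 7 := by norm_num
  have p11 : Nat.Prime 11 := by norm_num
  have p13 : Nat.Prime 13 := by norm_num
  interval_cases q
  all_goals first
    | exact absurd h3 (not_pp p2 p3 (by decide) (by decide) (by decide))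
    | exact absurd h3 (not_pp p2 p5 (by decide) (by decide) (by decide))
    | exact absurd h3 (not_pp p2 p7 (by decide) (by decide) (by decide))
    | exact absurd h3 (not_pp p3 p5 (by decide) (by decide) (by decide))
    | exact absurd h3 (not_pp p3 p7 (by decide) (by decide) (by decide))
    | exact absurd h3 (not_pp p2 p11 (by decide) (by decide) (by decide))
    | exact absurd h3 (not_pp p2 p13 (by decide) (by decide) (by decide))
    | decide

theorem prime29 : Nat.Prime 29 := by norm_num

variable {Q : Type} [Group Q] [Finite Q] {A : Subgroup Q} {Γ : Subgroup (MulAut Q)} {ι : Type} [Fintype ι]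
    [DecidableEq ι] {F : Type} [Field F] [Fintype F] {S P : Subgroup (GL ι F)}

/-- the case `q = 2` -/
theorem two_false (b : Big A Γ S P) (hB : Nat.card Q ≤ B24) (hN : K24 ∣ Nat.card Q) (hF : Fintype.card F = 2) :
    False := by
  have h29 : 29 ∣ Nat.card Q := (show 29 ∣ K24 by decide +kernel).trans hN
  have hq : ¬ 29 ∣ Fintype.card F := by rw [hF]; norm_num
  have hn : 28 ≤ Fintype.card ι := by
    refine ge_of prime29 (a := 2) (by decide +kernel) (by norm_num) ?_
    have := ord_lin b.m prime29 h29 hq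
    rwa [hF] at this
  rcases cases b with h | ⟨h, -, -⟩ | ⟨r, hr, -, -⟩ | ⟨h, -, Qf, hQf, hS⟩
  · rw [hF] at h
    have h3 : 28 ^ 2 - 2 ≤ Fintype.card ι ^ 2 - 2 := Nat.sub_le_sub_right (Nat.pow_le_pow_left hn 2) 2
    have h4 := pow_mono (by norm_num) h3 h
    exact absurd (h4.trans hB) (by decide +kernel)
  · omega
  · rw [hF] at hr
    have : r < 2 := by
      by_contra hcon
      have : 2 ^ 2 ≤ r ^ 2 := Nat.pow_le_pow_left (by omega) 2
      omega
    interval_cases r <;> omega
  · by_cases h28 : Fintype.card ι = 28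
    · subst hS
      rcases H568.EP.om_named hQf (by omega) b.m with ⟨k, hk, h'⟩ | ⟨k, hk, h' | h'⟩
      · omega
      · obtain rfl : k = 14 := by omega
        rw [hF] at h'
        rcases H568.EP.prime_oplus h' prime29 h29 (by norm_num) with h1 | ⟨i, h1, h2, h3⟩
        · exact absurd h1 (by decide +kernel)
        · have h5 : ∀ i < 14, 1 ≤ i → ¬ 29 ∣ 2 ^ (2 * i) - 1 := by decide +kernel
          exact h5 i (by omega) h1 h3
      · obtain rfl : k = 14 := by omega
        rw [hF] at h'
        rw [h'.ord] at hB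
        exact absurd hB (by decide +kernel)
    · have h29' : 29 ≤ Fintype.card ι := by omega
      rw [hF] at h
      have h3 : 29 * (29 - 1) / 2 ≤ Fintype.card ι * (Fintype.card ι - 1) / 2 :=
        Nat.div_le_div_right (Nat.mul_le_mul h29' (by omega))
      have h4 := pow_mono (by norm_num) h3 h
      exact absurd (h4.trans (Nat.mul_le_mul_left 8 hB)) (by decide +kernel)

/-- **Row `Fi24'`** -/
theorem fi24 (hg : TwoGen.{0}) (b : Big A Γ S P) (h : Spor.IsoFi24' (socle P)) : False := by
  have hc : Nat.card (socle P) = K24 := NotCT.Orders.fi24 h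
  have hfin : Finite (socle P) := Nat.finite_of_card_ne_zero (by rw [hc]; norm_num)
  have hsp : IsSporadicGroup (socle P) := by
    unfold IsSporadicGroup
    tauto
  have hA : Nat.card A = K24 ∨ Nat.card A = 2 * K24 := by
    rw [← hc]
    exact H805.EPT.cardA b.hasSoc b.core.simple (by rw [hc]; norm_num) (H498.SporOut.index_le_two hsp)
  have hB : Nat.card Q ≤ B24 := by
    refine card_le_soc hg b l24 ?_ (by decide) (M := 2 * K24) (K := K24) (by decide +kernel) ?_ (by decide +kernel)
      b.hasSoc hc ?_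
    · intro x hx
      simp only [l24, List.mem_cons, List.not_mem_nil, or_false] at hx
      rcases hx with rfl | rfl | rfl | rfl | rfl | rfl | rfl | rfl | rfl <;> norm_num
    · rcases hA with h1 | h1 <;> rw [h1]
      exact Dvd.intro_left _ rfl
    · rcases hA with h1 | h1 <;> rw [h1]
      omega
  have hN : K24 ∣ Nat.card Q := hc ▸ H812.EP.soc_dvd b.hasSoc
  by_cases h2 : 3 ≤ Fintype.card F
  · exact kill b hB hN b24_lt t24 t24_ok t24_prime t24_mem h2
  · exact two_false b hB hN (by have := b.two_le; omega)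

end Cfsg.Agent.H181.EP
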