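import Cfsg.Agent.H59.EP.UBGen
import Cfsg.Agent.H173.EP.LineBound
import Cfsg.Agent.H419.EP.Big

/-!
# S3499-V: the upper bound with the non-abelian part counted in a subgroup (helper181)

`N ≤ B` contains all perfect subgroups of `B`: then the non-abelian minimal characteristic subgroups lie in `N`, so
`|𝓜| ≤ (∑_s gal s (v_s |B|)) * c + |N| ^ 2 / 60 + |N| ^ 3 / 12744000`.

* `card_le_soc` : `soc(A) = L`, `|A| ≤ 2 |L|`, `|A| ∣ M`:
  `|Q| ≤ M (1 + (galSum (M/6) + |L|²/60 + |L|³/12744000) 2 (M/6))`.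
-/

set_option autoImplicit false

namespace Cfsg.Agent.H181.EP

open Subgroup Cfsg.Agent.H284 Cfsg.Agent.H59.EP Cfsg.Agent.H419.EP
open scoped MatrixGroups commutatorElement

section

variable {B : Type*} [Group B]

theorem ncard_sub_le [Finite B] (N : Subgroup B) (P : Subgroup B → Prop) (P' : Subgroup N → Prop)
    (h : ∀ X : Subgroup B, X ≤ N → P X → P' (X.subgroupOf N)) {k : ℕ}
    (hk : {X : Subgroup N | P' X}.ncard ≤ k) : {X : Subgroup B | X ≤ N ∧ P X}.ncard ≤ k := by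
  refine le_trans (Set.ncard_le_ncard_of_injOn (fun X => X.subgroupOf N) ?_ ?_ (Set.toFinite _)) hk
  · rintro X ⟨h1, h2⟩
    exact h X h1 h2
  · rintro X ⟨h1, _⟩ Y ⟨h2, _⟩ e
    have e1 := congrArg (Subgroup.map N.subtype) e
    simp only [Subgroup.subgroupOf_map_subtype] at e1
    rw [inf_eq_left.2 h1, inf_eq_left.2 h2] at e1
    exact e1

theorem ncard_simple_sub [Finite B] (N : Subgroup B) :
    {X : Subgroup B | X ≤ N ∧ ((IsSimpleGroup X ∧ ¬ Group.IsSolvable X) ∧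
      ∃ a b : X, closure ({a, b} : Set X) = ⊤)}.ncard ≤ Nat.card N ^ 2 / 60 := by
  refine ncard_sub_le N _ (fun X : Subgroup N => (IsSimpleGroup X ∧ ¬ Group.IsSolvable X) ∧
      ∃ a b : X, closure ({a, b} : Set X) = ⊤) ?_ (ncard_simple_le (fun X hX => hX.1) (fun X hX => hX.2))
  rintro X h1 ⟨⟨h2, h3⟩, a, b, h4⟩
  have e : X.subgroupOf N ≃* X := Subgroup.subgroupOfEquivOfLe h1
  refine ⟨⟨e.isSimpleGroup, fun h => h3 ?_⟩, e.symm a, e.symm b, ?_⟩
  · exact Group.isSolvable_of_isSolvable_injective (f := e.symm.toMonoidHom) e.symm.injective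
  · have h5 : ({e.symm a, e.symm b} : Set (X.subgroupOf N)) = e.symm.toMonoidHom '' {a, b} := by
      rw [Set.image_pair]
      rfl
    rw [h5, ← MonoidHom.map_closure, h4]
    exact Subgroup.map_top_of_surjective _ e.symm.surjective

theorem ncard_triple_sub [Finite B] (N : Subgroup B) {w : ℕ} (hw : 0 < w) :
    {X : Subgroup B | X ≤ N ∧ w ≤ {p : X × X × X | closure ({p.1, p.2.1, p.2.2} : Set X) = ⊤}.ncard}.ncard ≤
      Nat.card N ^ 3 / w := by
  refine ncard_sub_le N _ (fun X : Subgroup N =>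
    w ≤ {p : X × X × X | closure ({p.1, p.2.1, p.2.2} : Set X) = ⊤}.ncard) ?_ (ncard_triple_le hw fun X hX => hX)
  intro X h1 h2
  have e : X.subgroupOf N ≃* X := Subgroup.subgroupOfEquivOfLe h1
  refine h2.trans (Set.ncard_le_ncard_of_injOn (fun p => (e.symm p.1, e.symm p.2.1, e.symm p.2.2)) ?_ ?_ (Set.toFinite _))
  · intro p hp
    show closure ({e.symm p.1, e.symm p.2.1, e.symm p.2.2} : Set (X.subgroupOf N)) = ⊤
    have h3 : ({e.symm p.1, e.symm p.2.1, e.symm p.2.2} : Set (X.subgroupOf N)) =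
        e.symm.toMonoidHom '' {p.1, p.2.1, p.2.2} := by
      rw [Set.image_insert_eq, Set.image_pair]
      rfl
    rw [h3, ← MonoidHom.map_closure, show Subgroup.closure _ = ⊤ from hp]
    exact Subgroup.map_top_of_surjective _ e.symm.surjective
  · rintro ⟨p1, p2, p3⟩ _ ⟨q1, q2, q3⟩ _ h
    simp only [Prod.mk.injEq, EmbeddingLike.apply_eq_iff_eq] at h
    obtain ⟨rfl, rfl, rfl⟩ := h
    rfl

/-- **Counting theorem**, the non-abelian part in `N` -/
theorem ncard_le_gen_sub [Finite B]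
    (hg : ∀ (X : Type) [Group X] [Finite X] [IsSimpleGroup X], ∃ x y : X, closure ({x, y} : Set X) = ⊤)
    (hB : Nat.card B < 60 ^ 61) (N : Subgroup B) (hN : ∀ X : Subgroup B, commutator X = ⊤ → X ≤ N)
    {𝓜 : Set (Subgroup B)} {c : ℕ} (hc : ∀ M ∈ 𝓜, M.index ≤ c) (hnt : ∀ M ∈ 𝓜, M ≠ ⊥)
    (hch : ∀ M ∈ 𝓜, ∀ K : Subgroup M, K.Characteristic → K ≠ ⊥ → ∀ b : B,
      (∀ k ∈ K.map M.subtype, b * k * b⁻¹ ∈ K.map M.subtype) → b ∈ M) :
    𝓜.ncard ≤ (∑ s ∈ (Nat.card B).primeFactors, gal s ((Nat.card B).factorization s)) * c + Nat.card N ^ 2 / 60 +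
      Nat.card N ^ 3 / 12744000 := by
  classical
  have key : ∀ M ∈ 𝓜, ∃ X : Subgroup B, normalizer (X : Set B) = M ∧
      ((∃ s ∈ (Nat.card B).primeFactors, ElAb s X ∧ X ≠ ⊥) ∨
        (X ≤ N ∧ ((IsSimpleGroup X ∧ ¬ Group.IsSolvable X) ∧ ∃ a b : X, closure ({a, b} : Set X) = ⊤)) ∨
        (X ≤ N ∧ 12744000 ≤ {p : X × X × X | closure ({p.1, p.2.1, p.2.2} : Set X) = ⊤}.ncard)) := by
    intro M hM
    obtain ⟨X, h1, _, h3, h4⟩ := exists_key (hnt M hM) (hch M hM)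
    refine ⟨X, h1, ?_⟩
    have hXn : Nontrivial X := (Subgroup.nontrivial_iff_ne_bot X).2 h3
    have hXB : Nat.card X ∣ Nat.card B := Subgroup.card_subgroup_dvd_card X
    have hel' : ∀ s : ℕ, s.Prime → s ∣ Nat.card X → ElAb s (⊤ : Subgroup X) →
        ∃ s ∈ (Nat.card B).primeFactors, ElAb s X ∧ X ≠ ⊥ := by
      intro s hs hsd hel
      refine ⟨s, Nat.mem_primeFactors.2 ⟨hs, hsd.trans hXB, Nat.card_pos.ne'⟩, ⟨?_, ?_⟩, h3⟩
      · intro a ha b hb
        exact Subtype.ext_iff.1 (hel.comm ⟨a, ha⟩ (mem_top _) ⟨b, hb⟩ (mem_top _))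
      · intro a ha
        exact Subtype.ext_iff.1 (hel.exp ⟨a, ha⟩ (mem_top _))
    by_cases hcomm : ∀ a b : X, a * b = b * a
    · obtain ⟨s, hs, hsd, hel⟩ := elab_of_comm h4 hcomm
      exact Or.inl (hel' s hs hsd hel)
    · have hXN : X ≤ N := by
        apply hN
        rcases h4 (commutator X) inferInstance with h | h
        · exfalso
          apply hcomm
          intro a b
          have h5 : ⁅a, b⁆ ∈ commutator X := commutator_mem_commutator (mem_top _) (mem_top _)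
          rw [h, mem_bot, commutatorElement_eq_one_iff_mul_comm] at h5
          exact h5
        · exact h
      rcases char_simple_gen hg h4 ((Nat.le_of_dvd Nat.card_pos hXB).trans_lt hB) with ⟨s, hs, hsd, hel⟩ | h | h
      · exact Or.inl (hel' s hs hsd hel)
      · exact Or.inr (Or.inl ⟨hXN, h⟩)
      · exact Or.inr (Or.inr ⟨hXN, h⟩)
  choose! f hf1 hf2 using key
  have hinj : Set.InjOn f 𝓜 := by
    intro M hM N hN e
    rw [← hf1 M hM, ← hf1 N hN, e]
  rw [← hinj.ncard_image]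
  have hsub : f '' 𝓜 ⊆ ((⋃ s ∈ (Nat.card B).primeFactors,
      {X : Subgroup B | ElAb s X ∧ X ≠ ⊥ ∧ (normalizer (X : Set B)).index ≤ c}) ∪
      {X : Subgroup B | X ≤ N ∧ ((IsSimpleGroup X ∧ ¬ Group.IsSolvable X) ∧
        ∃ a b : X, closure ({a, b} : Set X) = ⊤)}) ∪
      {X : Subgroup B | X ≤ N ∧ 12744000 ≤ {p : X × X × X | closure ({p.1, p.2.1, p.2.2} : Set X) = ⊤}.ncard} := by
    rintro _ ⟨M, hM, rfl⟩
    rcases hf2 M hM with ⟨s, hs, h1, h2⟩ | h | h
    · left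
      left
      simp only [Set.mem_iUnion]
      exact ⟨s, hs, h1, h2, by rw [hf1 M hM]; exact hc M hM⟩
    · left
      right
      exact h
    · right
      exact h
  refine (Set.ncard_le_ncard hsub (Set.toFinite _)).trans ((Set.ncard_union_le _ _).trans (Nat.add_le_add
    ((Set.ncard_union_le _ _).trans (Nat.add_le_add ?_ (ncard_simple_sub N))) (ncard_triple_sub N (by norm_num))))
  have hun : ∀ I : Finset ℕ, (⋃ s ∈ I, {X : Subgroup B | ElAb s X ∧ X ≠ ⊥ ∧
      (normalizer (X : Set B)).index ≤ c}).ncard ≤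
      ∑ s ∈ I, {X : Subgroup B | ElAb s X ∧ X ≠ ⊥ ∧ (normalizer (X : Set B)).index ≤ c}.ncard := by
    intro I
    induction I using Finset.induction_on with
    | empty => simp
    | insert j I hj ih =>
      rw [Finset.sum_insert hj, Finset.set_biUnion_insert]
      exact (Set.ncard_union_le _ _).trans (Nat.add_le_add_left ih _)
  refine (hun _).trans ?_
  rw [Finset.sum_mul]
  exact Finset.sum_le_sum fun s hs => ncard_elab_class_le (Nat.prime_of_mem_primeFactors hs)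

end

section

universe u

variable {Q : Type u} [Group Q] [Finite Q] {A : Subgroup Q} {Γ : Subgroup (MulAut Q)}

/-- **UB2**, the non-abelian part counted in `N ≤ A`, where `N` contains the commutators of `A` -/
theorem ncard_le_N (h : EPT A Γ) (hg : TwoGen.{0})
    (hab : ∀ K : Subgroup Q, K ≤ A → (∀ a ∈ A, ∀ k ∈ K, a * k * a⁻¹ ∈ K) → (∀ a ∈ K, ∀ b ∈ K, a * b = b * a) → K = ⊥)
    (hB : Nat.card A < 60 ^ 61) {N : Subgroup Q} (hNA : N ≤ A) (hN : ∀ a ∈ A, ∀ b ∈ A, a * b * a⁻¹ * b⁻¹ ∈ N) :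
    {M : Subgroup Q | ∃ x, x ∉ A ∧ M = A ⊓ cj x A}.ncard ≤
      (∑ s ∈ (Nat.card A).primeFactors, gal s ((Nat.card A).factorization s)) * (Nat.card A / 6) +
        Nat.card N ^ 2 / 60 + Nat.card N ^ 3 / 12744000 := by
  obtain ⟨𝓜, h1, h2, h3, _, h4⟩ := EPT.transfer h (by norm_num) (fun _ hx => EPT.six_le h hab hx)
  have h5 := ncard_le_gen_sub hg hB (N.subgroupOf A) (by
    intro X hX x hx
    have h6 : (⟨x, hx⟩ : X) ∈ commutator X := by rw [hX]; exact mem_top _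
    have h7 : (commutator X).map X.subtype ≤ N.subgroupOf A := by
      rw [commutator_def, Subgroup.map_commutator, Subgroup.commutator_le]
      rintro a _ b _
      exact hN _ a.2 _ b.2
    exact h7 ⟨_, h6, rfl⟩) h2 h3 h4
  rw [Nat.card_congr (Subgroup.subgroupOfEquivOfLe hNA).toEquiv] at h5
  exact h1.trans h5

end

section

variable {Q : Type} [Group Q] [Finite Q] {A : Subgroup Q} {Γ : Subgroup (MulAut Q)} {ι : Type} [Fintype ι]
    [DecidableEq ι] {F : Type} [Field F] [Fintype F] {S P : Subgroup (GL ι F)}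

/-- the bound: `M` a multiple of `|A|` with factorisation `l`, `K = |soc(A)|` -/
def bndN (l : List (ℕ × ℕ)) (M K : ℕ) : ℕ :=
  M * (1 + ((l.map fun x => gal x.1 x.2).sum * (M / 6) + K ^ 2 / 60 + K ^ 3 / 12744000) * (2 * (M / 6)))

/-- **UB1 + UB2**, `|A| ≤ 2 |soc(A)|` -/
theorem card_le_soc (hg : TwoGen.{0}) (b : Big A Γ S P) (l : List (ℕ × ℕ)) (h1 : ∀ x ∈ l, x.1.Prime ∧ 0 < x.2)
    (h2 : (l.map Prod.fst).Nodup) {M K : ℕ} (hM : (l.map fun x => x.1 ^ x.2).prod = M) (hc : Nat.card A ∣ M)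
    (hB : M < 60 ^ 61) {L : Type*} [Group L] (hL : HasSoc A L) (hK : Nat.card L = K) (hA : Nat.card A ≤ 2 * K) :
    Nat.card Q ≤ bndN l M K := by
  obtain ⟨i1, i2, _⟩ := galSum_list l h1 h2
  rw [hM] at i1 i2
  have hM0 : 0 < M := Nat.pos_of_ne_zero i2
  have hle : Nat.card A ≤ M := Nat.le_of_dvd hM0 hc
  have hab : ∀ K : Subgroup Q, K ≤ A → (∀ a ∈ A, ∀ k ∈ K, a * k * a⁻¹ ∈ K) →
      (∀ a ∈ K, ∀ b ∈ K, a * b = b * a) → K = ⊥ := fun K hK hn hab =>
    b.hasSoc.no_abelian b.core.simple (fun h => b.core.nonabelian ⟨⟨h⟩⟩) hK hn hab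
  obtain ⟨N, n1, n2, n3, ⟨e⟩⟩ := hL
  have hNc : Nat.card N = K := by rw [Nat.card_congr e.toEquiv, hK]
  have hNA' : Nat.card (N.subgroupOf A) = K := by
    rw [Nat.card_congr (Subgroup.subgroupOfEquivOfLe n1).toEquiv, hNc]
  have hK0 : 0 < K := by rw [← hNc]; exact Nat.card_pos
  have hidx : (N.subgroupOf A).index = 1 ∨ (N.subgroupOf A).index = 2 := by
    have h3 := (N.subgroupOf A).card_mul_index
    rw [hNA'] at h3
    have h4 : (N.subgroupOf A).index ≠ 0 := Subgroup.index_ne_zero_of_finite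
    have h5 : K * (N.subgroupOf A).index ≤ K * 2 := by rw [h3, mul_comm K 2]; exact hA
    have h6 := Nat.le_of_mul_le_mul_left h5 hK0
    omega
  have hN : ∀ a ∈ A, ∀ b ∈ A, a * b * a⁻¹ * b⁻¹ ∈ N := by
    intro a ha b hb
    have h3 : (⟨a, ha⟩ * ⟨b, hb⟩ * ⟨a, ha⟩⁻¹ * ⟨b, hb⟩⁻¹ : A) ∈ N.subgroupOf A := by
      rcases hidx with h4 | h4
      · rw [Subgroup.index_eq_one.1 h4]
        exact mem_top _
      · rw [Subgroup.mul_mem_iff_of_index_two h4, Subgroup.mul_mem_iff_of_index_two h4,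
          Subgroup.mul_mem_iff_of_index_two h4, inv_mem_iff, inv_mem_iff]
        tauto
    exact h3
  have h3 := ncard_le_N b.ept hg hab (hle.trans_lt hB) n1 hN
  rw [hNc] at h3
  have h4 := index_le_of h3 (Cfsg.Agent.H173.EP.ub1 b.simple b.ept (by norm_num) fun _ hx => EPT.six_le b.ept hab hx)
    le_rfl
  rw [← Subgroup.card_mul_index A, bndN]
  refine Nat.mul_le_mul hle (h4.trans (Nat.add_le_add_left (Nat.mul_le_mul (Nat.add_le_add_right
    (Nat.add_le_add_right (Nat.mul_le_mul ?_ (Nat.div_le_div_right hle)) _) _)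
      (Nat.mul_le_mul_left _ (Nat.div_le_div_right hle))) 1))
  rw [← i1]
  exact galSum_le_of_dvd hc i2

end

end Cfsg.Agent.H181.EP
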